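import Mathlib
import Cfsg.Agent.Lib.Helper70.S3701.Defs
import Cfsg.Agent.Lib.Helper3.ExcPair
import Cfsg.Agent.Lib.Helper3.CharKernel
import Cfsg.Agent.Lib.Helper22.S3805.Ker

/-!
# S3701, package `PkgKerGen`: an involution all of whose conjugates in `N` lie in `C` is in the
common kernel of the exceptional pair
-/

set_option autoImplicit false

namespace Cfsg.Agent.Lib.Helper3.S3701

universe u

/-- The kernel of an irreducible character is a normal subgroup. -/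
theorem exists_char_kernel' {G : Type u} [Group G] [Finite G] (χ : G → ℂ)
    (h : Cfsg.IsIrrCharacter G χ) :
    ∃ K : Subgroup G, K.Normal ∧ ∀ g, g ∈ K ↔ χ g = χ 1 := by
  obtain ⟨n, ρ, -, rfl⟩ := h
  refine ⟨MonoidHom.ker ρ, MonoidHom.normal_ker ρ, fun g => ?_⟩
  rw [MonoidHom.mem_ker, Representation.char_one,
    Cfsg.Agent.Lib.Helper3.character_eq_finrank_iff]
  rfl

/-- A unit with `ζ ^ 3 = 1` and `ζ ^ 2 = 1` is trivial. -/
theorem unit_eq_one_of_cube_of_sq' {ζ : ℂˣ} (h3 : ζ ^ 3 = 1) (h2 : ζ ^ 2 = 1) : ζ = 1 := by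
  calc ζ = ζ ^ 3 * (ζ ^ 2)⁻¹ := by group
    _ = 1 := by rw [h3, h2]; simp

/-- **Package `PkgKerGen`.** -/
theorem pkgKerGen : Cfsg.Agent.Lib.Helper70.S3701.PkgKerGen.{u} := by
  intro hExc G _ _ C N ν hCN hcard hnorm hinv hTI hcube hne z hz2 hzN
  classical
  let _ : Fintype G := Fintype.ofFinite G
  obtain ⟨E, F, hE, hF, hdeg, hval, hA⟩ := hExc C N ν hCN hcard hnorm hinv hTI hcube hne
  -- `ν` is trivial on the elements of `C` of square one
  have hinvol : ∀ y : C, (y : G) * (y : G) = 1 → ν y = 1 := by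
    intro y hy
    have h2 : ν y ^ 2 = 1 := by
      rw [← map_pow]
      have : y ^ 2 = 1 := Subtype.ext (by
        rw [Subgroup.coe_pow, pow_two, Subgroup.coe_one]
        exact hy)
      rw [this, map_one]
    exact unit_eq_one_of_cube_of_sq' (hcube y) h2
  have hconj2 : ∀ g : G, (g * z * g⁻¹) * (g * z * g⁻¹) = 1 := by
    intro g
    calc (g * z * g⁻¹) * (g * z * g⁻¹) = g * (z * z) * g⁻¹ := by group
      _ = 1 := by rw [hz2]; group
  have hQz : ∀ (x : G) (y : C), ν y ≠ 1 → x * z * x⁻¹ ≠ (y : G) := by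
    intro x y hy hxy
    apply hy
    apply hinvol
    rw [← hxy]
    exact hconj2 x
  have hQzz : ∀ x y : G, ∀ (g : G) (y0 : C), ν y0 ≠ 1 →
      g * (x * z * x⁻¹ * (y * z * y⁻¹)) * g⁻¹ ≠ (y0 : G) := by
    intro x y g y0 hy0 hg
    obtain ⟨u', hu'⟩ : ∃ u' : G, u' = (g * x) * z * (g * x)⁻¹ := ⟨_, rfl⟩
    obtain ⟨v', hv'⟩ : ∃ v' : G, v' = (g * y) * z * (g * y)⁻¹ := ⟨_, rfl⟩
    have huv : u' * v' = (y0 : G) := by
      rw [← hg, hu', hv']
      group
    have hu2 : u' * u' = 1 := by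
      rw [hu']
      exact hconj2 (g * x)
    have hv2 : v' * v' = 1 := by
      rw [hv']
      exact hconj2 (g * y)
    have hu_inv : u'⁻¹ = u' := inv_eq_of_mul_eq_one_left hu2
    have hv_inv : v'⁻¹ = v' := inv_eq_of_mul_eq_one_left hv2
    have hconj : u' * (y0 : G) * u'⁻¹ = ((y0 : G))⁻¹ := by
      rw [← huv]
      have e1 : u' * (u' * v') * u'⁻¹ = (u' * u') * v' * u'⁻¹ := by group
      have e2 : (u' * v')⁻¹ = v'⁻¹ * u'⁻¹ := mul_inv_rev _ _
      rw [e1, e2, hu2, one_mul, hv_inv]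
    have huN : u' ∈ N := hTI y0 hy0 u' (by
      rw [hconj]
      exact inv_mem y0.2)
    have huC : u' ∈ C := by
      have h1 := hzN (g * x) (by
        rw [← hu']
        exact huN)
      rw [← hu'] at h1
      exact h1
    have hvC : v' ∈ C := by
      have h1 : v' = u' * (y0 : G) := by
        rw [← huv, ← mul_assoc, hu2, one_mul]
      rw [h1]
      exact mul_mem huC y0.2
    have h1 : ν ⟨u', huC⟩ = 1 := hinvol ⟨u', huC⟩ hu2
    have h2 : ν ⟨v', hvC⟩ = 1 := hinvol ⟨v', hvC⟩ hv2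
    apply hy0
    have h3 : y0 = ⟨u', huC⟩ * ⟨v', hvC⟩ := Subtype.ext huv.symm
    rw [h3, map_mul, h1, h2, one_mul]
  obtain ⟨hFz, hEz⟩ := Cfsg.Agent.Lib.Helper22.S3805.exc_pair_ker_gen hF hE hdeg
    (fun g => ∀ (x : G) (y : C), ν y ≠ 1 → x * g * x⁻¹ ≠ (y : G)) hval z hQzz hQz
  obtain ⟨KE, hKEn, hKE⟩ := exists_char_kernel' E hE
  obtain ⟨KF, hKFn, hKF⟩ := exists_char_kernel' F hF
  refine ⟨KE ⊓ KF, inferInstance, ⟨(hKE z).mpr hEz, (hKF z).mpr hFz⟩, ?_⟩
  intro y hy hmem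
  have h1 := (hKE _).mp hmem.1
  have h2 := (hKF _).mp hmem.2
  have h3 := hA y hy
  rw [h1, h2, hdeg] at h3
  have h4 : (1 : ℂ) = -2 := by linear_combination h3
  norm_num at h4

end Cfsg.Agent.Lib.Helper3.S3701
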